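import Cfsg.Agent.H840.Width
import Cfsg.Agent.Lib.PermNetFast
import Cfsg.Agent.Prune
set_option linter.all false
open scoped Cfsg.Agent.FastGrp

/-!
# `Fi24`: `G₂(3)` in `C(l, k, zc, c2)`, kernel checks

Words in `b, …, i` (fixing the point 25345) satisfying the relations of `GTwoThree.Rel`.
-/

set_option autoImplicit false
set_option maxRecDepth 100000
set_option Elab.async false

namespace Cfsg.Agent.H840.GK

open Cfsg Cfsg.Agent.Lib.PermNet Cfsg.Agent.Lib.PermNetPt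
open Cfsg.Agent.Fischer.Fi24RepDef Cfsg.Agent.Fischer.Fi24Rep
open Cfsg.Agent.H840.Wd
open Cfsg.Spor (Fi24)
open Cfsg.Spor.Fi24 (Gen)

def wa : List Gen :=
  [.c, .h, .d, .e, .i, .h, .g, .f, .d, .e, .f, .c, .g, .d, .b, .c, .f, .g, .h, .i, .e, .d, .h, .c, .b, .i, .e,
    .d, .e, .c, .b, .h, .i, .d, .c, .f, .g, .e, .d, .c, .f, .g, .e, .d, .h, .c]

def wb : List Gen :=
  [.e, .d, .e, .i, .b, .c, .h, .d, .b, .c, .f, .e, .d, .h, .c, .e, .d, .e, .i, .f, .g, .h, .d, .e, .d, .f, .c,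
    .b, .d, .h, .c, .b, .i, .e, .d, .e, .c, .b, .h, .i, .d, .h, .c, .e, .f, .b, .d, .c, .e, .d, .e, .c, .b, .h,
    .i, .d, .h, .c]

def wc : List Gen :=
  [.c, .h, .d, .e, .g, .f, .c, .b, .d, .h, .c, .b, .i, .e, .d, .e, .c, .b, .h, .i, .d, .h, .c, .b, .i, .e, .d,
    .e, .f, .g, .h, .i, .e, .d, .h, .c]

def wd : List Gen :=
  [.e, .g, .b, .d, .c, .b, .c, .h, .d, .c, .i, .h, .e, .d, .f, .g, .h, .i, .e, .d, .h, .c, .b, .i, .e, .d, .e,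
    .f, .h, .d, .c, .i, .d, .h, .g, .f, .i, .d, .c, .b]

def wr : List Gen :=
  [.e, .d, .e, .i, .b, .c, .b, .d, .c, .f, .e, .d, .c, .b, .h, .i, .d, .h, .c, .b, .i, .e, .d, .e, .c, .b, .h,
    .i, .d, .h, .c, .b, .e, .d, .e, .c, .f, .h, .d, .c, .i, .h, .e, .d]

def wt : List Gen :=
  [.c, .b, .h, .i, .g, .d, .h, .c, .b, .i, .e, .d, .e, .c, .b, .h, .i, .d, .h, .c]

set_option maxRecDepth 100000 in
private theorem pn_all_0 :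
    (eqB (wa ++ wa ++ wa) ([]) = true) ∧
    (eqB (wc ++ wc ++ wc) ([]) = true) ∧
    (eqB (wb ++ wb ++ wb ++ wb) ([]) = true) ∧
    (eqB (wb ++ wb) (wd ++ wd) = true) ∧
    (eqB (wr ++ wr) ([]) = true) ∧
    (eqB (wt ++ wt) ([]) = true) ∧
    (eqB (wa ++ wc) (wc ++ wa) = true) ∧
    (eqB (wa ++ wd) (wd ++ wa) = true) ∧
    (eqB (wb ++ wc) (wc ++ wb) = true) ∧
    (eqB (wb ++ wd) (wd ++ wb) = true) ∧
    (eqB (wa ++ wb ++ wa ++ wb ++ wa ++ wb) ([]) = true) ∧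
    (eqB (wc ++ wd ++ wc ++ wd ++ wc ++ wd) ([]) = true) ∧
    (eqB (wb ++ wb ++ wa) (wa ++ wb ++ wb) = true) ∧
    (eqB (wb ++ wb ++ wc) (wc ++ wb ++ wb) = true) ∧
    (eqB (wr ++ wa ++ wr) (wa.reverse) = true) ∧
    (eqB (wr ++ wb ++ wr) (wb.reverse) = true) ∧
    (eqB (wr ++ wc ++ wr) (wc.reverse) = true) ∧
    (eqB (wr ++ wd ++ wr) (wd.reverse) = true) ∧
    (eqB (wb ++ wt ++ wb ++ wt ++ wb ++ wt) ([]) = true) ∧
    (eqB (wt ++ wb ++ wd) (wb ++ wd ++ wt) = true) ∧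
    (eqB (wt ++ wb ++ wb ++ wt) (wr) = true) ∧
    (eqB (wa ++ wt ++ wa ++ wt) (wt ++ wa ++ wt ++ wa) = true) ∧
    (eqB (wc ++ wt ++ wb ++ wd ++ wc ++ wd.reverse ++ wb.reverse ++ wt.reverse) (wt ++ wb ++ wd ++ wc ++ wd.reverse ++ wb.reverse ++ wt.reverse ++ wc) = true) ∧
    (eqB (wa ++ wt ++ wc ++ wt) (wt ++ wc ++ wt ++ wa) = true) ∧
    (and (chkPt (nw wa false) 25345 25345) (and (chkPt (nw wb false) 25345 25345)
    (and (chkPt (nw wc false) 25345 25345) (and (chkPt (nw wd false) 25345 25345)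
    (and (chkPt (nw wr false) 25345 25345) (chkPt (nw wt false) 25345 25345))))) = true) ∧
    (chkPt (nw wa false) 193 3255 = true) := by
  (rewrite [show @Cfsg.Agent.Lib.PermNetPt.chkPt = delta% @Cfsg.Agent.Lib.PermNetPt.chkPt from by delta Cfsg.Agent.Lib.PermNetPt.chkPt; rfl, show @Cfsg.Agent.H840.Wd.eqB = delta% @Cfsg.Agent.H840.Wd.eqB from by delta Cfsg.Agent.H840.Wd.eqB; rfl, show @Cfsg.Agent.H840.Wd.eqL = delta% @Cfsg.Agent.H840.Wd.eqL from by delta Cfsg.Agent.H840.Wd.eqL; rfl, show @Cfsg.Agent.H840.Wd.eqL._f = delta% @Cfsg.Agent.H840.Wd.eqL._f from by delta Cfsg.Agent.H840.Wd.eqL._f; rfl, Cfsg.Agent.Lib.PermNetFast.winv_fast]; decide +kernel)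

theorem a3 : eqB (wa ++ wa ++ wa) ([]) = true :=
  pn_all_0.1
theorem c3 : eqB (wc ++ wc ++ wc) ([]) = true :=
  pn_all_0.2.1
theorem b4 : eqB (wb ++ wb ++ wb ++ wb) ([]) = true :=
  pn_all_0.2.2.1
theorem bd2 : eqB (wb ++ wb) (wd ++ wd) = true :=
  pn_all_0.2.2.2.1
theorem rr : eqB (wr ++ wr) ([]) = true :=
  pn_all_0.2.2.2.2.1
theorem tt : eqB (wt ++ wt) ([]) = true :=
  pn_all_0.2.2.2.2.2.1
theorem ac : eqB (wa ++ wc) (wc ++ wa) = true :=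
  pn_all_0.2.2.2.2.2.2.1
theorem ad : eqB (wa ++ wd) (wd ++ wa) = true :=
  pn_all_0.2.2.2.2.2.2.2.1
theorem bc : eqB (wb ++ wc) (wc ++ wb) = true :=
  pn_all_0.2.2.2.2.2.2.2.2.1
theorem bd : eqB (wb ++ wd) (wd ++ wb) = true :=
  pn_all_0.2.2.2.2.2.2.2.2.2.1
theorem ab3 : eqB (wa ++ wb ++ wa ++ wb ++ wa ++ wb) ([]) = true :=
  pn_all_0.2.2.2.2.2.2.2.2.2.2.1
theorem cd3 : eqB (wc ++ wd ++ wc ++ wd ++ wc ++ wd) ([]) = true :=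
  pn_all_0.2.2.2.2.2.2.2.2.2.2.2.1
theorem za : eqB (wb ++ wb ++ wa) (wa ++ wb ++ wb) = true :=
  pn_all_0.2.2.2.2.2.2.2.2.2.2.2.2.1
theorem zc : eqB (wb ++ wb ++ wc) (wc ++ wb ++ wb) = true :=
  pn_all_0.2.2.2.2.2.2.2.2.2.2.2.2.2.1
theorem ra : eqB (wr ++ wa ++ wr) (wa.reverse) = true :=
  pn_all_0.2.2.2.2.2.2.2.2.2.2.2.2.2.2.1
theorem rb : eqB (wr ++ wb ++ wr) (wb.reverse) = true :=
  pn_all_0.2.2.2.2.2.2.2.2.2.2.2.2.2.2.2.1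
theorem rc : eqB (wr ++ wc ++ wr) (wc.reverse) = true :=
  pn_all_0.2.2.2.2.2.2.2.2.2.2.2.2.2.2.2.2.1
theorem rd : eqB (wr ++ wd ++ wr) (wd.reverse) = true :=
  pn_all_0.2.2.2.2.2.2.2.2.2.2.2.2.2.2.2.2.2.1
theorem bt3 : eqB (wb ++ wt ++ wb ++ wt ++ wb ++ wt) ([]) = true :=
  pn_all_0.2.2.2.2.2.2.2.2.2.2.2.2.2.2.2.2.2.2.1
theorem te : eqB (wt ++ wb ++ wd) (wb ++ wd ++ wt) = true :=
  pn_all_0.2.2.2.2.2.2.2.2.2.2.2.2.2.2.2.2.2.2.2.1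
theorem tz : eqB (wt ++ wb ++ wb ++ wt) (wr) = true :=
  pn_all_0.2.2.2.2.2.2.2.2.2.2.2.2.2.2.2.2.2.2.2.2.1
theorem k1 : eqB (wa ++ wt ++ wa ++ wt) (wt ++ wa ++ wt ++ wa) = true :=
  pn_all_0.2.2.2.2.2.2.2.2.2.2.2.2.2.2.2.2.2.2.2.2.2.1
theorem k2 : eqB (wc ++ wt ++ wb ++ wd ++ wc ++ wd.reverse ++ wb.reverse ++ wt.reverse) (wt ++ wb ++ wd ++ wc ++ wd.reverse ++ wb.reverse ++ wt.reverse ++ wc) = true :=
  pn_all_0.2.2.2.2.2.2.2.2.2.2.2.2.2.2.2.2.2.2.2.2.2.2.1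
theorem k3 : eqB (wa ++ wt ++ wc ++ wt) (wt ++ wc ++ wt ++ wa) = true :=
  pn_all_0.2.2.2.2.2.2.2.2.2.2.2.2.2.2.2.2.2.2.2.2.2.2.2.1

/-- the words fix the point 25345 -/
theorem fix : and (chkPt (nw wa false) 25345 25345) (and (chkPt (nw wb false) 25345 25345)
    (and (chkPt (nw wc false) 25345 25345) (and (chkPt (nw wd false) 25345 25345)
    (and (chkPt (nw wr false) 25345 25345) (chkPt (nw wt false) 25345 25345))))) = true :=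
  pn_all_0.2.2.2.2.2.2.2.2.2.2.2.2.2.2.2.2.2.2.2.2.2.2.2.2.1

/-- `a` moves the point 193 -/
theorem a_ne : chkPt (nw wa false) 193 3255 = true :=
  pn_all_0.2.2.2.2.2.2.2.2.2.2.2.2.2.2.2.2.2.2.2.2.2.2.2.2.2

end Cfsg.Agent.H840.GK
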