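import Cfsg.Agent.H840.Width
import Cfsg.Agent.H840.GK
import Cfsg.Agent.GTwoThree.Core
import Cfsg.Agent.GTwoThree.Model
import Cfsg.Agent.S1055
import Cfsg.Agent.S1059
import Cfsg.Agent.Prune
set_option linter.all false
prune_inst 0x7f00000000000000000000000000000000000000000000000000000000000000000000000000000000000000000000000000000000000000000000000000000000000000000000000000000000000000003fffffffffffffffffffffffffffbeffbdffffffff
open scoped Cfsg.Agent.FastGrp

/-!
# `Fi24`: `C(l, k, zc, c2) ≅ G₂(3)`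
-/

set_option autoImplicit false
set_option maxRecDepth 100000
set_option exponentiation.threshold 30000

namespace Cfsg.Agent.H840.G2

open Cfsg Cfsg.Agent.GTwoThree

/-- a group satisfying the relations maps onto a simple group satisfying them -/
theorem surj {J₁ J₂ : Type*} [Group J₁] [Group J₂] [IsSimpleGroup J₂] {a b c d r t : J₁} {a' b' c' d' r' t' : J₂}
    (h : Rel a b c d r t) (h' : Rel a' b' c' d' r' t') (ha : a ≠ 1) (ha' : a' ≠ 1)
    (hgen : Subgroup.closure {a, b, c, d, r, t} = ⊤)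
    (hgen' : Subgroup.closure {a', b', c', d', r', t'} = ⊤) : ∃ f : J₁ →* J₂, Function.Surjective f := by
  have core' : ∀ y : J₂, (∀ w : J₂, w⁻¹ * y * w ∈ NA a') → y = 1 := by
    intro y hy
    have hyN : y ∈ (NA a').normalCore := by
      intro w
      have := hy w⁻¹
      rwa [inv_inv] at this
    have hnorm := Subgroup.normalCore_normal (NA a')
    rcases hnorm.eq_bot_or_eq_top with h1 | h1
    · rw [h1] at hyN
      exact Subgroup.mem_bot.mp hyN
    · exfalso
      apply h'.b_not_mem ha'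
      have : b' ∈ (NA a').normalCore := by rw [h1]; trivial
      exact Subgroup.normalCore_le _ this
  set Γ := pairs a b c d r t a' b' c' d' r' t' with hΓ
  have b1 : Function.Bijective ((MonoidHom.fst J₁ J₂).comp Γ.subtype) := by
    constructor
    · rw [injective_iff_map_eq_one]
      rintro ⟨x, hx⟩ h1
      have h2 : x.1 = 1 := h1
      have h3 := pairs_ker h h' ha ha' hgen' core' hx h2
      exact Subtype.ext (Prod.ext h2 h3)
    · intro y
      obtain ⟨x, hx, e⟩ := pairs_fst_surj (a' := a') (b' := b') (c' := c') (d' := d') (r' := r') (t' := t') h hgen y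
      exact ⟨⟨x, hx⟩, e⟩
  have b2 : Function.Surjective ((MonoidHom.snd J₁ J₂).comp Γ.subtype) := by
    intro y
    obtain ⟨x, hx, e⟩ := pairs_fst_surj (a' := a) (b' := b) (c' := c) (d' := d) (r' := r) (t' := t) h' hgen' y
    exact ⟨⟨x.swap, pairs_swap hx⟩, e⟩
  let e := MulEquiv.ofBijective _ b1
  refine ⟨((MonoidHom.snd J₁ J₂).comp Γ.subtype).comp e.symm.toMonoidHom, ?_⟩
  exact b2.comp e.symm.surjective

/-- **Recognition of `G₂(3)` by its order.** -/
theorem iso_of_card {G : Type*} [Group G] [Finite G] (H : Subgroup G) (hH : Nat.card ↥H ≤ 4245696) {a b c d r t : G}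
    (h : Rel a b c d r t) (h1 : a ≠ 1) (ha : a ∈ H) (hb : b ∈ H) (hc : c ∈ H) (hd : d ∈ H) (hr : r ∈ H) (ht : t ∈ H) :
    Nonempty (↥H ≃* ↥(Cfsg.Lie.chevG2.group (ZMod 3))) := by
  obtain ⟨a', b', c', d', r', t', h', ha', hgen'⟩ := Cfsg.Agent.GTwoThree.Model.model
  have hs : IsSimpleGroup ↥(Cfsg.Lie.chevG2.group (ZMod 3)) := (Cfsg.Agent.S1055.result ⟨2, by decide, by decide⟩).1
  have hcard : Nat.card ↥(Cfsg.Lie.chevG2.group (ZMod 3)) = 4245696 := by
    rw [Cfsg.Agent.S1059.result (ZMod.card 3)]; norm_num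
  set K := Subgroup.closure {a, b, c, d, r, t} with hK
  have ma : a ∈ K := Subgroup.subset_closure (by simp)
  have mb : b ∈ K := Subgroup.subset_closure (by simp)
  have mc : c ∈ K := Subgroup.subset_closure (by simp)
  have md : d ∈ K := Subgroup.subset_closure (by simp)
  have mr : r ∈ K := Subgroup.subset_closure (by simp)
  have mt : t ∈ K := Subgroup.subset_closure (by simp)
  have hKH : K ≤ H := by
    rw [hK, Subgroup.closure_le]
    rintro x hx
    simp only [Set.mem_insert_iff, Set.mem_singleton_iff] at hx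
    rcases hx with rfl | rfl | rfl | rfl | rfl | rfl <;> assumption
  have hl := Core.lift h K ma mb mc md mr mt
  have hgen : Subgroup.closure {(⟨a, ma⟩ : K), (⟨b, mb⟩ : K), (⟨c, mc⟩ : K), (⟨d, md⟩ : K), (⟨r, mr⟩ : K),
      (⟨t, mt⟩ : K)} = ⊤ := by
    have h1 := Subgroup.closure_closure_coe_preimage (k := ({a, b, c, d, r, t} : Set G))
    have h2 : (Subtype.val : K → G) ⁻¹' ({a, b, c, d, r, t} : Set G) = {(⟨a, ma⟩ : K), (⟨b, mb⟩ : K),
        (⟨c, mc⟩ : K), (⟨d, md⟩ : K), (⟨r, mr⟩ : K), (⟨t, mt⟩ : K)} := by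
      ext x
      simp only [Set.mem_preimage, Set.mem_insert_iff, Set.mem_singleton_iff, Subtype.ext_iff]
    rw [← h2]
    exact h1
  have ha1 : (⟨a, ma⟩ : K) ≠ 1 := fun e => h1 (congrArg Subtype.val e)
  obtain ⟨f, hf⟩ := surj hl h' ha1 ha' hgen hgen'
  have h2 : 4245696 ≤ Nat.card ↥K := by
    rw [← hcard]
    exact Nat.card_le_card_of_surjective f hf
  have h3 : K = H := Subgroup.eq_of_le_of_card_ge hKH (hH.trans h2)
  rw [← h3] at hH ⊢
  have h4 : Nat.card ↥K = Nat.card ↥(Cfsg.Lie.chevG2.group (ZMod 3)) := by rw [hcard]; exact le_antisymm hH h2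
  have : Finite ↥(Cfsg.Lie.chevG2.group (ZMod 3)) := Finite.of_surjective f hf
  exact ⟨MulEquiv.ofBijective f ((Nat.bijective_iff_surjective_and_card f).2 ⟨hf, h4⟩)⟩

open Cfsg.Agent.Lib.PermNet Cfsg.Agent.Lib.PermNetPt
open Cfsg.Agent.Fischer.Fi24RepDef Cfsg.Agent.Fischer.Fi24Rep
open Cfsg.Agent.Fischer.Fi24Spider (word_append word_cons word_nil)
open Cfsg.Agent.KFacts.FiTF.Pts Cfsg.Agent.KFacts.FiTF.FixMask
open Cfsg.Agent.H840.Wd Cfsg.Agent.H840.Lk Cfsg.Agent.H840.GK Cfsg.Agent.H840.LkK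
open Cfsg.Spor (Fi24 coxLabel)
open Cfsg.Spor.Fi24 (Gen edges)
open Subgroup

theorem wm (u v : List Gen) : word u * word v = word (u ++ v) := (word_append u v).symm

theorem wnil : word ([] : List Gen) = 1 := word_nil

/-- the relations -/
theorem rel : Rel (word wa) (word wb) (word wc) (word wd) (word wr) (word wt) where
  a3 := by rw [pow_three', wm, wm, ← wnil]; exact eq_of_eqB a3
  c3 := by rw [pow_three', wm, wm, ← wnil]; exact eq_of_eqB c3
  b4 := by rw [pow_succ, pow_three', wm, wm, wm, ← wnil]; exact eq_of_eqB b4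
  bd2 := by rw [wm, wm]; exact eq_of_eqB bd2
  rr := by rw [wm, ← wnil]; exact eq_of_eqB rr
  tt := by rw [wm, ← wnil]; exact eq_of_eqB tt
  ac := by rw [wm, wm]; exact eq_of_eqB ac
  ad := by rw [wm, wm]; exact eq_of_eqB ad
  bc := by rw [wm, wm]; exact eq_of_eqB bc
  bd := by rw [wm, wm]; exact eq_of_eqB bd
  ab3 := by rw [pow_three', ← wnil]; simp only [wm, ← List.append_assoc]; exact eq_of_eqB ab3
  cd3 := by rw [pow_three', ← wnil]; simp only [wm, ← List.append_assoc]; exact eq_of_eqB cd3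
  za := by simp only [wm, ← List.append_assoc]; exact eq_of_eqB za
  zc := by simp only [wm, ← List.append_assoc]; exact eq_of_eqB GK.zc
  ra := by simp only [wm, ← List.append_assoc, ← word_reverse]; exact eq_of_eqB ra
  rb := by simp only [wm, ← List.append_assoc, ← word_reverse]; exact eq_of_eqB rb
  rc := by simp only [wm, ← List.append_assoc, ← word_reverse]; exact eq_of_eqB rc
  rd := by simp only [wm, ← List.append_assoc, ← word_reverse]; exact eq_of_eqB rd
  bt3 := by rw [pow_three', ← wnil]; simp only [wm, ← List.append_assoc]; exact eq_of_eqB bt3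
  te := by simp only [wm, ← List.append_assoc]; exact eq_of_eqB te
  tz := by simp only [wm, ← List.append_assoc]; exact eq_of_eqB tz
  k1 := by simp only [wm, ← List.append_assoc]; exact eq_of_eqB k1
  k2 := by
    simp only [wm, ← word_reverse, List.reverse_append, ← List.append_assoc]; exact eq_of_eqB k2
  k3 := by simp only [wm, ← List.append_assoc]; exact eq_of_eqB k3

theorem a_ne_one : word wa ≠ 1 := by
  intro h
  have h1 := rho_of_chkPt GK.a_ne
  rw [h, map_one] at h1
  exact absurd h1 (by norm_num)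

theorem mem_Cc {w : List Gen} (h : ∀ x ∈ w, x ∈ AL) (hf : chkPt (nw w false) 25345 25345 = true) : word w ∈ Cc := by
  refine mem_inf.2 ⟨?_, ?_⟩
  · rw [Clz_eq]
    exact word_mem_cl h
  · rw [mem_centralizer_singleton_iff]
    exact (isPt_c2.comm_iff _).2 (rho_of_chkPt hf)

/-- **`C(l, k, zc, c2) ≅ G₂(3)`** -/
theorem iso_Cc : Nonempty (↥Cc ≃* ↥(Cfsg.Lie.chevG2.group (ZMod 3))) := by
  have := Cfsg.Agent.R08.FiTwentyFour.finite_Fi24
  have hf := GK.fix
  simp only [Bool.and_eq_true] at hf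
  obtain ⟨f1, f2, f3, f4, f5, f6⟩ := hf
  exact iso_of_card Cc card_Cc.le rel a_ne_one (mem_Cc (by decide) f1) (mem_Cc (by decide) f2)
    (mem_Cc (by decide) f3) (mem_Cc (by decide) f4) (mem_Cc (by decide) f5) (mem_Cc (by decide) f6)

end Cfsg.Agent.H840.G2
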