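import Mathlib
import Cfsg.Agent.H831.GenFit
import Cfsg.Agent.H840.Width
import Cfsg.Agent.H840.NormX
import Cfsg.Agent.H841.Transport
import Cfsg.Agent.CpAut.Fix
import Cfsg.Agent.S0293
import Cfsg.Agent.S0296
import Cfsg.Prelude.Def_FischerSpaces
import Cfsg.Agent.FastGrp
import Cfsg.Agent.Prune
set_option linter.all false
prune_inst 0x7f00000000000000000000000000000000000000000000000000000000000000000000000000000000000000000000000000000000000000000000000000000000000000000000000000000000000000003fffffffffffffffffffffffffffbeffbdffffffff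
open scoped Cfsg.Agent.FastGrp

-- part: H840/FStar
section
/-!
# `F*` of a triality group

`L` generated by a class `T` of 3-transpositions containing two different commuting members, `Z(L) = 1`, `N` a normal
simple subgroup with `L / N ≅ Sym(3)`: then `C_L(N) = 1` and `F*(L) = N`.
-/

set_option autoImplicit false

namespace Cfsg.Agent.H840.FStar

open Cfsg Subgroup

variable {L : Type*} [Group L]

/-- facts on `Sym(3)` -/
theorem s3 : ∀ σ : Equiv.Perm (Fin 3), σ ≠ 1 → ∃ τ : Equiv.Perm (Fin 3), (σ ^ 3 = 1 ∧ σ ≠ 1) ∨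
    ((σ * (τ * σ * τ⁻¹)) ^ 3 = 1 ∧ σ * (τ * σ * τ⁻¹) ≠ 1) := by decide +kernel

theorem s3' : ∀ σ τ : Equiv.Perm (Fin 3), σ ^ 3 = 1 → τ ^ 3 = 1 → σ ≠ 1 → τ = 1 ∨ τ = σ ∨ τ = σ⁻¹ := by decide +kernel

/-- **The centralizer of `N` is trivial.** -/
theorem centralizer_eq_bot {T : Set L} (hgen : closure T = ⊤) (h2 : ∀ t ∈ T, t * t = 1)
    (hconj : ∀ t ∈ T, ∀ g : L, g * t * g⁻¹ ∈ T) (htr : ∀ s ∈ T, ∀ t ∈ T, ∃ g : L, g * s * g⁻¹ = t)
    (h3 : ∀ s ∈ T, ∀ t ∈ T, (s * t) ^ 2 = 1 ∨ (s * t) ^ 3 = 1)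
    {t₁ t₂ : L} (ht₁ : t₁ ∈ T) (ht₂ : t₂ ∈ T) (hne : t₁ ≠ t₂) (hc : Commute t₁ t₂) (hZ : center L = ⊥)
    {N : Subgroup L} (hN : N.Normal) (hcN : N ⊓ centralizer (N : Set L) = ⊥) (f : L →* Equiv.Perm (Fin 3))
    (hf : f.ker = N) (hfs : Function.Surjective f) : centralizer (N : Set L) = ⊥ := by
  have hCn : (centralizer (N : Set L)).Normal := by infer_instance
  have hinj : ∀ x ∈ centralizer (N : Set L), f x = 1 → x = 1 := by
    intro x hx h
    have h1 : x ∈ N := by rw [← hf]; exact h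
    have h2 : x ∈ N ⊓ centralizer (N : Set L) := ⟨h1, hx⟩
    rwa [hcN, mem_bot] at h2
  by_contra hne1
  obtain ⟨⟨x, hx⟩, hx0⟩ := Subgroup.ne_bot_iff_exists_ne_one.1 hne1
  have hx1 : x ≠ 1 := fun h' => hx0 (Subtype.ext h')
  -- an element of order 3
  have hp : ∃ p ∈ centralizer (N : Set L), p ^ 3 = 1 ∧ p ≠ 1 := by
    have hfx : f x ≠ 1 := fun h => hx1 (hinj _ hx h)
    obtain ⟨τ, hτ⟩ := s3 _ hfx
    obtain ⟨y, rfl⟩ := hfs τ
    rcases hτ with ⟨h4, h5⟩ | ⟨h4, h5⟩
    · refine ⟨x, hx, hinj _ (pow_mem hx 3) ?_, hx1⟩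
      rw [map_pow, h4]
    · have hm : (x : L) * (y * x * y⁻¹) ∈ centralizer (N : Set L) := mul_mem hx (hCn.conj_mem _ hx y)
      refine ⟨_, hm, hinj _ (pow_mem hm 3) ?_, ?_⟩
      · rw [map_pow, map_mul, map_mul, map_mul, map_inv, h4]
      · intro h
        apply h5
        rw [← map_inv, ← map_mul, ← map_mul, ← map_mul, h, map_one]
  obtain ⟨p, hpC, hp3, hp1⟩ := hp
  have hfp : f p ≠ 1 := fun h => hp1 (hinj _ hpC h)
  -- conjugates of `p` are `p` or `p⁻¹`
  have hcj : ∀ g : L, g * p * g⁻¹ = p ∨ g * p * g⁻¹ = p⁻¹ := by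
    intro g
    have h4 : f (g * p * g⁻¹) ^ 3 = 1 := by
      rw [← map_pow, conj_pow, hp3, mul_one, mul_inv_cancel, map_one]
    have h5 : f p ^ 3 = 1 := by rw [← map_pow, hp3, map_one]
    have hm : g * p * g⁻¹ ∈ centralizer (N : Set L) := hCn.conj_mem _ hpC g
    rcases s3' _ _ h5 h4 hfp with h6 | h6 | h6
    · exfalso
      have h7 := hinj _ hm h6
      apply hp1
      have h8 : p = g⁻¹ * (g * p * g⁻¹) * g := by group
      rw [h8, h7]
      group
    · left
      have h7 : f (g * p * g⁻¹ * p⁻¹) = 1 := by rw [map_mul, h6, map_inv, mul_inv_cancel]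
      exact mul_inv_eq_one.1 (hinj _ (mul_mem hm (inv_mem hpC)) h7)
    · right
      have h7 : f (g * p * g⁻¹ * p) = 1 := by rw [map_mul, h6, inv_mul_cancel]
      exact eq_inv_of_mul_eq_one_left (hinj _ (mul_mem hm hpC) h7)
  by_cases hall : ∃ t ∈ T, t * p * t⁻¹ = p
  · -- then `p` is central
    obtain ⟨t, ht, htp⟩ := hall
    have h4 : ∀ s ∈ T, s * p = p * s := by
      intro s hs
      obtain ⟨g, rfl⟩ := htr t ht s hs
      have h5 : ∀ q : L, (q = p ∨ q = p⁻¹) → t * q * t⁻¹ = q := by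
        rintro q (rfl | rfl)
        · exact htp
        · calc t * p⁻¹ * t⁻¹ = (t * p * t⁻¹)⁻¹ := by group
            _ = p⁻¹ := by rw [htp]
      have h6 : t * (g⁻¹ * p * g) * t⁻¹ = g⁻¹ * p * g := by
        apply h5
        have h7 := hcj g⁻¹
        rwa [inv_inv] at h7
      rw [← mul_inv_eq_iff_eq_mul]
      calc g * t * g⁻¹ * p * (g * t * g⁻¹)⁻¹ = g * (t * (g⁻¹ * p * g) * t⁻¹) * g⁻¹ := by group
        _ = g * (g⁻¹ * p * g) * g⁻¹ := by rw [h6]
        _ = p := by group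
    have h5 : p ∈ center L := by
      rw [mem_center_iff]
      intro g
      have hg : g ∈ closure T := by rw [hgen]; exact mem_top g
      induction hg using closure_induction with
      | mem y hy => exact h4 y hy
      | one => rw [one_mul, mul_one]
      | mul a b _ _ ha hb => rw [mul_assoc, hb, ← mul_assoc, ha, mul_assoc]
      | inv a _ ha => rw [inv_mul_eq_iff_eq_mul, ← mul_assoc, ha, mul_assoc, mul_inv_cancel, mul_one]
    rw [hZ, mem_bot] at h5
    exact hp1 h5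
  · -- all members of `T` invert `p`
    have hinv : ∀ t ∈ T, t * p = p⁻¹ * t := by
      intro t ht
      rw [← mul_inv_eq_iff_eq_mul]
      exact (hcj t).resolve_left fun h => hall ⟨t, ht, h⟩
    have hinv' : ∀ t ∈ T, t * p⁻¹ = p * t := by
      intro t ht
      have h4 := hinv t ht
      calc t * p⁻¹ = p * (p⁻¹ * t) * p⁻¹ := by group
        _ = p * (t * p) * p⁻¹ := by rw [h4]
        _ = p * t := by group
    have e1 := hinv' t₁ ht₁
    have e2 := hinv t₂ ht₂
    have e3 := hinv t₁ ht₁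
    -- `y = p t₁ p⁻¹ t₂ = p² t₁ t₂`
    have hy : p * t₁ * p⁻¹ * t₂ = p * p * (t₁ * t₂) := by
      calc p * t₁ * p⁻¹ * t₂ = p * (t₁ * p⁻¹) * t₂ := by group
        _ = p * (p * t₁) * t₂ := by rw [e1]
        _ = p * p * (t₁ * t₂) := by group
    have hcm : t₁ * t₂ * p = p * (t₁ * t₂) := by
      calc t₁ * t₂ * p = t₁ * (t₂ * p) := by group
        _ = t₁ * (p⁻¹ * t₂) := by rw [e2]
        _ = (t₁ * p⁻¹) * t₂ := by group
        _ = p * t₁ * t₂ := by rw [e1]
        _ = p * (t₁ * t₂) := by group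
    have hcm' : Commute (p * p) (t₁ * t₂) := by
      have h4 : Commute p (t₁ * t₂) := hcm.symm
      exact h4.mul_left h4
    have hsq : (t₁ * t₂) ^ 2 = 1 := by
      rw [hc.mul_pow, pow_two, pow_two, h2 _ ht₁, h2 _ ht₂, one_mul]
    have hT := hconj t₁ ht₁ p
    rcases h3 _ hT _ ht₂ with h4 | h4
    · rw [hy, hcm'.mul_pow, hsq, mul_one] at h4
      apply hp1
      have h5 : (p * p) ^ 2 = p ^ 3 * p := by simp only [pow_succ, pow_zero, one_mul, mul_assoc]
      rwa [h4, hp3, one_mul, eq_comm] at h5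
    · rw [hy, hcm'.mul_pow] at h4
      have h5 : (p * p) ^ 3 = 1 := by
        have h6 : (p * p) ^ 3 = p ^ 3 * p ^ 3 := by simp only [pow_succ, pow_zero, one_mul, mul_assoc]
        rw [h6, hp3, one_mul]
      rw [h5, one_mul, pow_succ, hsq, one_mul] at h4
      apply hne
      rw [mul_eq_one_iff_eq_inv.1 h4]
      exact inv_eq_of_mul_eq_one_left (h2 _ ht₂)

end Cfsg.Agent.H840.FStar
end

-- part: H840/M499
section
/-!
# The normalizer of the product of two non-commuting transpositions of a group of type M(24)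
-/

set_option autoImplicit false
set_option exponentiation.threshold 30000

namespace Cfsg.Agent.H840.M499

open Cfsg Subgroup
open Cfsg.Agent.Fischer480.Defs (FGroup Com)
open Cfsg.Agent.H840.NormX

universe u

/-- what the concrete computation in `Fi24` provides -/
structure Data {G : Type u} [Group G] (D : Set G) (a d : G) : Prop where
  card : Nat.card ↥(centralizer ({a, d} : Set G)) = 29713078886400
  gen : closure (Com D a d) = centralizer ({a, d} : Set G)
  trans : ∃ z ∈ Com D a d, ∀ t ∈ Com D a d, ∃ g ∈ centralizer ({a, d} : Set G), g * z * g⁻¹ = t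
  width : commutingWidth (Com D a d) = 8
  two : ∃ s ∈ Com D a d, ∃ t ∈ Com D a d, s ≠ t ∧ Commute s t

theorem Data.map {G : Type u} {G' : Type*} [Group G] [Group G'] {D : Set G} {a d : G} (h : Data D a d) (e : G ≃* G') :
    Data (e '' D) (e a) (e d) := by
  have hC : e '' (Com D a d) = Com (e '' D) (e a) (e d) := by
    ext x
    constructor
    · rintro ⟨y, ⟨h1, h2, h3⟩, rfl⟩
      exact ⟨⟨y, h1, rfl⟩, h2.map e, h3.map e⟩
    · rintro ⟨⟨y, h1, rfl⟩, h2, h3⟩
      refine ⟨y, ⟨h1, ?_, ?_⟩, rfl⟩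
      · apply e.injective
        rw [map_mul, map_mul]
        exact h2
      · apply e.injective
        rw [map_mul, map_mul]
        exact h3
  have hP : e '' ({a, d} : Set G) = {e a, e d} := Set.image_pair e a d
  have hM : (centralizer ({a, d} : Set G)).map e.toMonoidHom = centralizer ({e a, e d} : Set G') := by
    rw [H841.Transport.map_centralizer, hP]
  refine ⟨?_, ?_, ?_, ?_, ?_⟩
  · rw [← hM, H841.Transport.card_map, h.card]
  · rw [← hM, ← h.gen, H841.Transport.map_closure, hC]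
  · obtain ⟨z, hz, hh⟩ := h.trans
    refine ⟨e z, hC ▸ ⟨z, hz, rfl⟩, ?_⟩
    rw [← hC]
    rintro _ ⟨t, ht, rfl⟩
    obtain ⟨g, hg, rfl⟩ := hh t ht
    refine ⟨e g, hM ▸ ⟨g, hg, rfl⟩, ?_⟩
    rw [map_mul, map_mul, map_inv]
  · rw [← hC, H841.Transport.commutingWidth_image, h.width]
  · obtain ⟨s, hs, t, ht, h1, h2⟩ := h.two
    exact ⟨e s, hC ▸ ⟨s, hs, rfl⟩, e t, hC ▸ ⟨t, ht, rfl⟩, fun h3 => h1 (e.injective h3), h2.map e⟩

section Core

open Cfsg.Agent.H840.Lk Cfsg.Agent.R08.FiTwentyFour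
open Cfsg.Agent.Fischer.Fi24RepDef Cfsg.Agent.Fischer.Fi24Rep
open Cfsg.Agent.Fischer.Y322

theorem core : Data L (gen .l) (gen .k) := by
  have hC : Com L (gen .l) (gen .k) = Dlk := rfl
  refine ⟨card_Clk, ?_, ?_, ?_, ?_⟩
  · rw [hC]; exact Width.closure_Dlk
  · exact ⟨zc, zc_Dlk, fun t ht => Clk_trans ht⟩
  · rw [hC]; exact Width.width
  · obtain ⟨E, h1, h2, h3⟩ := Width.exists_eight
    have h4 : 1 < E.ncard := by rw [h3]; norm_num
    rw [Set.one_lt_ncard (Set.finite_of_ncard_ne_zero (by rw [h3]; norm_num))] at h4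
    obtain ⟨s, hs, t, ht, hne⟩ := h4
    exact ⟨s, h1 hs, t, h1 ht, hne, h2 s hs t ht⟩

theorem all {G : Type u} [Group G] {D : Set G} (e : Spor.Fi24 ≃* G) (he : e '' L = D) {a d : G} (ha : a ∈ D)
    (hd : d ∈ D) (hn : ¬ Commute a d) : Data D a d := by
  rw [← he] at ha hd
  obtain ⟨a', ha', rfl⟩ := ha
  obtain ⟨d', hd', rfl⟩ := hd
  have hn' : ¬ Commute a' d' := fun h => hn (h.map e)
  obtain ⟨g, hg1, hg2⟩ := noncomm_trans (Lk.gen_mem .l) (Lk.gen_mem .k) ha' hd' not_comm_lk hn'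
  have h1 := core.map ((MulAut.conj g : Spor.Fi24 ≃* Spor.Fi24).trans e)
  have h2 : ((MulAut.conj g : Spor.Fi24 ≃* Spor.Fi24).trans e) '' L = D := by
    rw [← he]
    ext x
    constructor
    · rintro ⟨y, hy, rfl⟩
      exact ⟨g * y * g⁻¹, Cfsg.Agent.R08.FiTwentyFour.conj hy g, rfl⟩
    · rintro ⟨y, hy, rfl⟩
      refine ⟨g⁻¹ * y * (g⁻¹)⁻¹, Cfsg.Agent.R08.FiTwentyFour.conj hy g⁻¹, ?_⟩
      show e (g * (g⁻¹ * y * (g⁻¹)⁻¹) * g⁻¹) = e y
      congr 1
      group
  rw [h2] at h1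
  have e1 : ((MulAut.conj g : Spor.Fi24 ≃* Spor.Fi24).trans e) (gen .l) = e a' := by
    show e (g * gen .l * g⁻¹) = e a'
    rw [hg1]
  have e2 : ((MulAut.conj g : Spor.Fi24 ≃* Spor.Fi24).trans e) (gen .k) = e d' := by
    show e (g * gen .k * g⁻¹) = e d'
    rw [hg2]
  rwa [e1, e2] at h1

end Core

/-! ### `PΩ⁺₈(3)` -/

/-- the group of the statements -/
abbrev PO : Type := POmega (ZMod 3) (quadFormPlus 4 (ZMod 3))

theorem card_PO : Nat.card PO = 4952179814400 := by
  have h := S0293.result (F := ZMod 3) (q := 3) (by simp) 4 le_rfl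
  have h1 : Nat.gcd 4 (3 ^ 4 - 1) = 4 := by norm_num
  have h2 : (3 ^ (4 * (4 - 1)) * (3 ^ 4 - 1) * ∏ i ∈ Finset.range (4 - 1), (3 ^ (2 * (i + 1)) - 1) : ℕ) =
      4 * 4952179814400 := by
    rw [show 4 - 1 = 3 from rfl, Finset.prod_range_succ, Finset.prod_range_succ, Finset.prod_range_succ,
      Finset.prod_range_zero]
    norm_num
  rw [h1, h2] at h
  exact Nat.eq_of_mul_eq_mul_left (by norm_num) h

theorem not_comm_PO : ¬ IsMulCommutative PO := by
  intro h
  have hs : IsSimpleGroup PO := S0296.result 4 le_rfl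
  let _ : CommGroup PO := { (inferInstance : Group PO) with mul_comm := fun a b => h.1.1 a b }
  have : Finite PO := Nat.finite_of_card_ne_zero (by rw [card_PO]; norm_num)
  have h1 : (Nat.card PO).Prime := IsSimpleGroup.prime_card
  rw [card_PO] at h1
  have h2 : (2 : ℕ) ∣ 4952179814400 := by norm_num
  rw [Nat.dvd_prime h1] at h2
  omega

/-! ### The abstract part -/

section Abs

variable {G : Type u} [Group G] [Finite G] {D : Set G}

/-- the three assertions on `F*` -/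
theorem fstar (F : FGroup D) {a d : G} (hX : Data D a d) {Q : Type*} [Group Q]
    (e : Q ≃* ↥(centralizer ({a, d} : Set G))) (hZ : center Q = ⊥) (N : Subgroup Q) (hN : N.Normal)
    (e1 : ↥N ≃* PO) (e2 : Q ⧸ N ≃* Equiv.Perm (Fin 3)) :
    Nonempty (↥(generalizedFittingSubgroup ↥(centralizer ({a, d} : Set G))) ≃* PO) ∧
      ∃ _ : (generalizedFittingSubgroup ↥(centralizer ({a, d} : Set G))).Normal,
        Nonempty (↥(centralizer ({a, d} : Set G)) ⧸ generalizedFittingSubgroup ↥(centralizer ({a, d} : Set G)) ≃*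
          Equiv.Perm (Fin 3)) := by
  have hF := fd F
  have hs : IsSimpleGroup PO := S0296.result 4 le_rfl
  set C := centralizer ({a, d} : Set G) with hCdef
  let N' : Subgroup ↥C := N.map e.toMonoidHom
  have hN' : N'.Normal := hN.map e.toMonoidHom e.surjective
  let e3 : ↥N' ≃* PO := (N.equivMapOfInjective e.toMonoidHom e.injective).symm.trans e1
  have hs' : IsSimpleGroup ↥N' := e3.isSimpleGroup
  have hnc : ¬ IsMulCommutative ↥N' := by
    intro h
    apply not_comm_PO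
    refine ⟨⟨fun x y => ?_⟩⟩
    apply e3.symm.injective
    rw [map_mul, map_mul]
    exact h.1.1 _ _
  have hq : IsQuasisimple ↥N' := CpAut.Fix.quasisimple_of_simple hnc
  have hcN : N' ⊓ centralizer (N' : Set ↥C) = ⊥ := by
    have h1 := CpAut.Fix.center_eq_bot hnc
    rw [eq_bot_iff]
    rintro x ⟨hx, hx'⟩
    have h2 : (⟨x, hx⟩ : ↥N') ∈ center ↥N' := by
      rw [mem_center_iff]
      intro y
      exact Subtype.ext (mem_centralizer_iff.1 hx' y y.2)
    rw [h1, mem_bot] at h2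
    rw [mem_bot]
    exact congrArg Subtype.val h2
  have hZC : center ↥C = ⊥ := by
    rw [eq_bot_iff]
    intro x hx
    have h1 : e.symm x ∈ center Q := by
      rw [mem_center_iff]
      intro y
      apply e.injective
      rw [map_mul, map_mul, e.apply_symm_apply]
      exact mem_center_iff.1 hx (e y)
    rw [hZ, mem_bot, MulEquiv.map_eq_one_iff] at h1
    rw [mem_bot, h1]
  let f : ↥C →* Equiv.Perm (Fin 3) := e2.toMonoidHom.comp ((QuotientGroup.mk' N).comp e.symm.toMonoidHom)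
  have hfs : Function.Surjective f :=
    e2.surjective.comp ((QuotientGroup.mk'_surjective N).comp e.symm.surjective)
  have hfk : f.ker = N' := by
    ext x
    rw [MonoidHom.mem_ker]
    have h1 : f x = e2 (QuotientGroup.mk' N (e.symm x)) := rfl
    rw [h1, MulEquiv.map_eq_one_iff, QuotientGroup.mk'_apply, QuotientGroup.eq_one_iff]
    constructor
    · intro h
      exact ⟨e.symm x, h, e.apply_symm_apply x⟩
    · rintro ⟨y, hy, rfl⟩
      show e.symm (e y) ∈ N
      rwa [e.symm_apply_apply]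
  -- the class of transpositions
  have hcomC : ∀ x, x ∈ D → x ∈ C → x ∈ Com D a d := by
    intro x hx hc
    rw [hCdef, mem_cent_pair] at hc
    exact ⟨hx, hc.1, hc.2⟩
  have hCom : ∀ x, x ∈ Com D a d → x ∈ C := fun x hx => by
    rw [hCdef, mem_cent_pair]
    exact ⟨hx.2.1, hx.2.2⟩
  obtain ⟨s, hs1, t, ht1, hst, hcst⟩ := hX.two
  obtain ⟨z, hz, htr⟩ := hX.trans
  have hc1 : centralizer (N' : Set ↥C) = ⊥ := by
    refine FStar.centralizer_eq_bot (T := {x : ↥C | (x : G) ∈ D}) ?_ ?_ ?_ ?_ ?_ (t₁ := ⟨s, hCom s hs1⟩)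
      (t₂ := ⟨t, hCom t ht1⟩) hs1.1 ht1.1 (fun h => hst (congrArg Subtype.val h)) ?_ hZC hN' hcN f hfk hfs
    · have h1 : (closure {x : ↥C | (x : G) ∈ D}).map C.subtype = (⊤ : Subgroup ↥C).map C.subtype := by
        rw [MonoidHom.map_closure, ← MonoidHom.range_eq_map, Subgroup.range_subtype]
        refine Eq.trans ?_ hX.gen
        congr 1
        ext x
        constructor
        · rintro ⟨y, hy, rfl⟩
          exact hcomC _ hy y.2
        · intro hx
          exact ⟨⟨x, hCom x hx⟩, hx.1, rfl⟩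
      exact Subgroup.map_injective C.subtype_injective h1
    · intro x hx
      exact Subtype.ext (hF.sq _ hx)
    · intro x hx g
      exact hF.conj _ _ hx
    · intro x hx y hy
      obtain ⟨g, hg, hgx⟩ := htr x (hcomC _ hx x.2)
      obtain ⟨h, hh, hhy⟩ := htr y (hcomC _ hy y.2)
      refine ⟨⟨h * g⁻¹, C.mul_mem hh (C.inv_mem hg)⟩, Subtype.ext ?_⟩
      show h * g⁻¹ * x * (h * g⁻¹)⁻¹ = y
      rw [← hgx, ← hhy]
      group
    · intro x hx y hy
      by_cases hc : Commute (x : G) (y : G)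
      · left
        apply Subtype.ext
        show ((x : G) * y) ^ 2 = 1
        rw [hc.mul_pow, pow_two, pow_two, hF.sq _ hx, hF.sq _ hy, one_mul]
      · right
        apply Subtype.ext
        show ((x : G) * y) ^ 3 = 1
        exact cube hF hx hy hc
    · exact Subtype.ext hcst.eq
  have hfit : N' = generalizedFittingSubgroup ↥C := H831.GenFit.eq_fstar hN' hq (by rw [hc1]; exact bot_le)
  rw [← hfit]
  refine ⟨⟨e3⟩, hN', ⟨?_⟩⟩
  exact (QuotientGroup.quotientMulEquivOfEq hfk.symm).trans (QuotientGroup.quotientKerEquivOfSurjective f hfs)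

/-- the second part of the definition of type M(24) and the order of the centralizer -/
theorem fstar' (F : FGroup D) {a d : G} (ha : a ∈ D) (hd : d ∈ D) (hn : ¬ Commute a d) (hX : Data D a d)
    {d' c' : G} (hd' : d' ∈ D) (hc' : c' ∈ D) (hn' : ¬ Commute d' c')
    (h : ∃ (N : Subgroup (↥(Subgroup.closure ({y : G | y ∈ D ∧ y ≠ d' ∧ Commute d' y} ∩ {y : G | y ∈ D ∧ y ≠ c' ∧ Commute c' y})) ⧸
        Subgroup.center ↥(Subgroup.closure ({y : G | y ∈ D ∧ y ≠ d' ∧ Commute d' y} ∩ {y : G | y ∈ D ∧ y ≠ c' ∧ Commute c' y})))) (_ : N.Normal),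
      Nonempty (N ≃* POmega (ZMod 3) (quadFormPlus 4 (ZMod 3))) ∧
      Nonempty ((↥(Subgroup.closure ({y : G | y ∈ D ∧ y ≠ d' ∧ Commute d' y} ∩ {y : G | y ∈ D ∧ y ≠ c' ∧ Commute c' y})) ⧸
        Subgroup.center ↥(Subgroup.closure ({y : G | y ∈ D ∧ y ≠ d' ∧ Commute d' y} ∩ {y : G | y ∈ D ∧ y ≠ c' ∧ Commute c' y}))) ⧸ N ≃* Equiv.Perm (Fin 3))) :
    Nonempty (↥(generalizedFittingSubgroup ↥(centralizer ({a, d} : Set G))) ≃* PO) ∧
      ∃ _ : (generalizedFittingSubgroup ↥(centralizer ({a, d} : Set G))).Normal,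
        Nonempty (↥(centralizer ({a, d} : Set G)) ⧸ generalizedFittingSubgroup ↥(centralizer ({a, d} : Set G)) ≃*
          Equiv.Perm (Fin 3)) := by
  set K := Subgroup.closure ({y : G | y ∈ D ∧ y ≠ d' ∧ Commute d' y} ∩ {y : G | y ∈ D ∧ y ≠ c' ∧ Commute c' y}) with hK
  obtain ⟨N, hN, ⟨e1⟩, ⟨e2⟩⟩ := h
  obtain ⟨g, hg1, hg2⟩ := exists_conj F hd' hc' ha hd hn' hn
  have hmap : (centralizer ({d', c'} : Set G)).map (MulAut.conj g).toMonoidHom = centralizer ({a, d} : Set G) := by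
    rw [H841.Transport.map_centralizer, Set.image_pair]
    congr 1
    show {g * d' * g⁻¹, g * c' * g⁻¹} = _
    rw [hg1, hg2]
  have hcard : Nat.card ↥(centralizer ({d', c'} : Set G)) = 29713078886400 := by
    rw [← H841.Transport.card_map (MulAut.conj g), hmap, hX.card]
  have hle : K ≤ centralizer ({d', c'} : Set G) := by
    rw [hK, closure_le]
    rintro x ⟨⟨h1, h2, h3⟩, h4, h5, h6⟩
    exact (mem_cent_pair).2 ⟨h3, h6⟩
  have hQ : Nat.card (↥K ⧸ center ↥K) = 29713078886400 := by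
    rw [Subgroup.card_eq_card_quotient_mul_card_subgroup N, Nat.card_congr e1.toEquiv, Nat.card_congr e2.toEquiv, card_PO,
      Nat.card_eq_fintype_card, Fintype.card_perm, Fintype.card_fin]
    norm_num [Nat.factorial]
  have hKc : Nat.card ↥K = 29713078886400 * Nat.card ↥(center ↥K) := by
    rw [Subgroup.card_eq_card_quotient_mul_card_subgroup (center ↥K), hQ]
  have hKle := Subgroup.card_le_of_le hle
  rw [hcard, hKc] at hKle
  have hpos : 0 < Nat.card ↥(center ↥K) := Nat.card_pos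
  have hz1 : Nat.card ↥(center ↥K) = 1 := by omega
  have hZK : center ↥K = ⊥ := Subgroup.eq_bot_of_card_eq _ hz1
  have hKeq : K = centralizer ({d', c'} : Set G) := by
    apply Subgroup.eq_of_le_of_card_ge hle
    rw [hcard, hKc, hz1]
  -- the isomorphism
  have e0 : (↥K ⧸ center ↥K) ≃* ↥K :=
    (QuotientGroup.quotientMulEquivOfEq hZK).trans QuotientGroup.quotientBot
  have e4 : ↥K ≃* ↥(centralizer ({a, d} : Set G)) :=
    (MulEquiv.subgroupCongr hKeq).trans ((H841.Transport.mapEquiv (MulAut.conj g) _).trans (MulEquiv.subgroupCongr hmap))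
  have hZQ : center (↥K ⧸ center ↥K) = ⊥ := by
    rw [eq_bot_iff]
    intro x hx
    have h1 : e0 x ∈ center ↥K := by
      rw [mem_center_iff]
      intro y
      obtain ⟨y, rfl⟩ := e0.surjective y
      rw [← map_mul, ← map_mul, mem_center_iff.1 hx y]
    have h2 : e0 x = 1 := by
      have h3 : e0 x ∈ (⊥ : Subgroup ↥K) := hZK ▸ h1
      exact mem_bot.1 h3
    rw [MulEquiv.map_eq_one_iff] at h2
    rw [mem_bot, h2]
  exact fstar F hX (e0.trans e4) hZQ N hN e1 e2

/-- **S5499** from the isomorphism and the data. -/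
theorem main (F : FGroup D) {a d : G} (ha : a ∈ D) (hd : d ∈ D) (hn : ¬ Commute a d) (hX : Data D a d)
    (h24 : IsOfTypeM24 G D) (X S L : Subgroup G) (hXd : X = Subgroup.zpowers (a * d))
    (hS : S = Subgroup.closure ({a, d} : Set G)) (hL : L = Subgroup.centralizer ({a, d} : Set G)) :
    S ⊓ L = ⊥ ∧ (∀ x ∈ S, ∀ y ∈ L, x * y = y * x) ∧ S ⊔ L = Subgroup.normalizer ((X : Subgroup G) : Set G) ∧
      Nonempty (↥S ≃* Equiv.Perm (Fin 3)) ∧
      L = Subgroup.closure {y : G | y ∈ D ∧ Commute a y ∧ Commute d y ∧ y ≠ a ∧ y ≠ d} ∧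
      Nonempty (↥(Cfsg.generalizedFittingSubgroup ↥L) ≃* Cfsg.POmega (ZMod 3) (Cfsg.quadFormPlus 4 (ZMod 3))) ∧
      (∃ _ : (Cfsg.generalizedFittingSubgroup ↥L).Normal,
        Nonempty (↥L ⧸ Cfsg.generalizedFittingSubgroup ↥L ≃* Equiv.Perm (Fin 3))) ∧
      Cfsg.commutingWidth (D ∩ (Subgroup.centralizer ((X : Subgroup G) : Set G) : Set G)) = 8 := by
  subst hXd hS hL
  obtain ⟨-, d', hd', c', hc', hn', -, h4⟩ := h24
  obtain ⟨h5, h6⟩ := fstar' F ha hd hn hX hd' hc' hn' h4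
  refine ⟨inf_eq_bot F ha hd hn, commute_pair, sup_eq_normalizer F ha hd hn, equiv_perm F ha hd hn, ?_, h5, h6, ?_⟩
  · rw [← hX.gen]
    congr 1
    ext y
    constructor
    · rintro ⟨h1, h2, h3⟩
      refine ⟨h1, h2, h3, ?_, ?_⟩
      · rintro rfl
        exact hn h3.symm
      · rintro rfl
        exact hn h2
    · rintro ⟨h1, h2, h3, -, -⟩
      exact ⟨h1, h2, h3⟩
  · have h1 : (centralizer ((zpowers (a * d) : Subgroup G) : Set G)) = centralizer ({a * d} : Set G) := by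
      rw [zpowers_eq_closure, centralizer_closure]
    rw [h1, inter_cent F ha hd hn, hX.width]

end Abs

end Cfsg.Agent.H840.M499
end
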